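import Mathlib.CategoryTheory.Presentable.Directed
import Mathlib.CategoryTheory.Limits.Final
import Mathlib.CategoryTheory.MorphismProperty.Composition

/-!
# Limits of limits

If `T` is a cofiltered limit of objects `D a`, each of which is a cofiltered limit of objects `E a b`,
and maps into the `E a b` factor and agree at finite stages, then `T` is a limit over one directed
poset of objects of the form `E a b`.
-/

set_option autoImplicit false

universe u w

open CategoryTheory CategoryTheory.Limits Opposite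

noncomputable section

namespace Groth.Agent.LimNested

variable {𝒞 : Type w} [Category.{u} 𝒞] {A : Type u} [SmallCategory A] {D : A ⥤ 𝒞} (c : Cone D)
  {B : A → Type u} [∀ a, SmallCategory (B a)] {E : ∀ a, B a ⥤ 𝒞}
  (e : ∀ a, (Functor.const (B a)).obj (D.obj a) ⟶ E a)
  (P : MorphismProperty 𝒞)

/-- The stages `E a b` of the nested system, as objects under the limit. -/
structure Stage (_c : Cone D) (_e : ∀ a, (Functor.const (B a)).obj (D.obj a) ⟶ E a)
    (_P : MorphismProperty 𝒞) : Type u where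
  /-- The outer index. -/
  fst : A
  /-- The inner index. -/
  snd : B fst

/-- The object of a stage. -/
abbrev Stage.val (o : Stage c e P) : 𝒞 := (E o.fst).obj o.snd

/-- The projection to a stage. -/
abbrev Stage.proj (o : Stage c e P) : c.pt ⟶ Stage.val c e P o := c.π.app o.1 ≫ (e o.1).app o.2

variable [P.IsMultiplicative]

instance : Category.{u} (Stage c e P) where
  Hom o o' := {g : Stage.val c e P o ⟶ Stage.val c e P o' // P g ∧ Stage.proj c e P o ≫ g = Stage.proj c e P o'}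
  id o := ⟨𝟙 _, P.id_mem _, Category.comp_id _⟩
  comp g h := ⟨g.1 ≫ h.1, P.comp_mem _ _ g.2.1 h.2.1, by rw [← Category.assoc, g.2.2, h.2.2]⟩
  id_comp g := Subtype.ext (Category.id_comp _)
  comp_id g := Subtype.ext (Category.comp_id _)
  assoc f g h := Subtype.ext (Category.assoc _ _ _)

/-- The diagram of all stages. -/
def stages : Stage c e P ⥤ 𝒞 where
  obj o := Stage.val c e P o
  map g := g.1
  map_id _ := rfl
  map_comp _ _ := rfl

/-- The cone over all stages. -/
def stageCone : Cone (stages c e P) where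
  pt := c.pt
  π :=
    { app := fun o => Stage.proj c e P o
      naturality := fun o o' g => (Category.id_comp _).trans g.2.2.symm }

/-- A morphism of stages over one `a`. -/
def stageMap (hE : ∀ (a : A) (b b' : B a) (f : b ⟶ b'), P ((E a).map f)) {a : A} {b b' : B a}
    (f : b ⟶ b') : (⟨a, b⟩ : Stage c e P) ⟶ ⟨a, b'⟩ :=
  ⟨(E a).map f, hE _ _ _ f, by
    have h : (e a).app b ≫ (E a).map f = (e a).app b' :=
      ((e a).naturality f).symm.trans (Category.id_comp _)
    exact (Category.assoc _ _ _).trans (congrArg (c.π.app a ≫ ·) h)⟩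

variable (hE : ∀ (a : A) (b b' : B a) (f : b ⟶ b'), P ((E a).map f))
  (hext : ∀ (a a' : A) (f : a ⟶ a') (b' : B a'),
  ∃ (b : B a) (g' : (E a).obj b ⟶ (E a').obj b'), P g' ∧ (e a).app b ≫ g' = D.map f ≫ (e a').app b')

include hE hext in
theorem isCofiltered_stage [IsCofiltered A] [∀ a, IsCofiltered (B a)]
    (heq : ∀ (a a' : A) (b : B a) (b' : B a') (g h : (E a).obj b ⟶ (E a').obj b'),
      (e a).app b ≫ g = (e a).app b ≫ h → ∃ (b₁ : B a) (f : b₁ ⟶ b), (E a).map f ≫ g = (E a).map f ≫ h)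
    (heq₀ : ∀ (a a' : A) (b' : B a') (g h : D.obj a ⟶ (E a').obj b'),
      c.π.app a ≫ g = c.π.app a ≫ h → ∃ (a₁ : A) (f : a₁ ⟶ a), D.map f ≫ g = D.map f ≫ h) :
    IsCofiltered (Stage c e P) := by
  haveI : IsCofilteredOrEmpty (Stage c e P) := by
    refine ⟨fun o o' => ?_, fun {o o'} g h => ?_⟩
    · obtain ⟨a, f, f', -⟩ := IsCofilteredOrEmpty.cone_objs o.1 o'.1
      obtain ⟨b₁, g₁, hg₁, h₁⟩ := hext a o.1 f o.2
      obtain ⟨b₂, g₂, hg₂, h₂⟩ := hext a o'.1 f' o'.2
      obtain ⟨b, k₁, k₂, -⟩ := IsCofilteredOrEmpty.cone_objs b₁ b₂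
      refine ⟨⟨a, b⟩, stageMap c e P hE k₁ ≫ ⟨g₁, hg₁, ?_⟩, stageMap c e P hE k₂ ≫ ⟨g₂, hg₂, ?_⟩, trivial⟩
      · show (c.π.app a ≫ (e a).app b₁) ≫ g₁ = _
        rw [Category.assoc, h₁, ← Category.assoc, c.w]
      · show (c.π.app a ≫ (e a).app b₂) ≫ g₂ = _
        rw [Category.assoc, h₂, ← Category.assoc, c.w]
    · obtain ⟨a, f, hf⟩ := heq₀ o.1 o'.1 o'.2 ((e o.1).app o.2 ≫ g.1) ((e o.1).app o.2 ≫ h.1) (by
        simp only [← Category.assoc]; exact g.2.2.trans h.2.2.symm)
      obtain ⟨b₁, l, hlP, hl⟩ := hext a o.1 f o.2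
      obtain ⟨b, k, hk⟩ := heq a o'.1 b₁ o'.2 (l ≫ g.1) (l ≫ h.1) (by
        rw [reassoc_of% hl, reassoc_of% hl]; exact hf)
      refine ⟨⟨a, b⟩, stageMap c e P hE k ≫ ⟨l, hlP, ?_⟩, Subtype.ext ?_⟩
      · show (c.π.app a ≫ (e a).app b₁) ≫ l = _
        rw [Category.assoc, hl, ← Category.assoc, c.w]
      · show ((E a).map k ≫ l) ≫ g.1 = ((E a).map k ≫ l) ≫ h.1
        rw [Category.assoc, Category.assoc, hk]
  obtain ⟨a⟩ : Nonempty A := IsCofiltered.nonempty
  obtain ⟨b⟩ : Nonempty (B a) := IsCofiltered.nonempty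
  haveI : Nonempty (Stage c e P) := ⟨⟨a, b⟩⟩
  exact {}

include hE hext in
/-- The limit of the limits is the limit over all stages. -/
theorem nonempty_isLimit_stageCone [∀ a, IsCofiltered (B a)] (hc : IsLimit c)
    (he : ∀ a, IsLimit ({ pt := D.obj a, π := e a } : Cone (E a))) :
    Nonempty (IsLimit (stageCone c e P)) := by
  let m (s : Cone (stages c e P)) (a : A) : s.pt ⟶ D.obj a :=
    (he a).lift { pt := s.pt
                  π := { app := fun b => s.π.app ⟨a, b⟩
                         naturality := fun b b' f => (Category.id_comp _).trans (s.w (stageMap c e P hE f)).symm } }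
  have hm : ∀ (s : Cone (stages c e P)) (a : A) (b : B a), m s a ≫ (e a).app b = s.π.app ⟨a, b⟩ :=
    fun s a b => (he a).fac _ b
  have hnat : ∀ (s : Cone (stages c e P)) {a a' : A} (f : a ⟶ a'), m s a ≫ D.map f = m s a' := by
    intro s a a' f
    refine (he a').hom_ext fun b => ?_
    show (m s a ≫ D.map f) ≫ (e a').app b = m s a' ≫ (e a').app b
    obtain ⟨b₁, g, hgP, hg⟩ := hext a a' f b
    have hg' : Stage.proj c e P ⟨a, b₁⟩ ≫ g = Stage.proj c e P ⟨a', b⟩ := by
      show (c.π.app a ≫ (e a).app b₁) ≫ g = _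
      rw [Category.assoc, hg, ← Category.assoc, c.w]
    rw [Category.assoc, ← hg, ← Category.assoc, hm, hm]
    exact s.w (⟨g, hgP, hg'⟩ : (⟨a, b₁⟩ : Stage c e P) ⟶ ⟨a', b⟩)
  let lift (s : Cone (stages c e P)) : s.pt ⟶ c.pt :=
    hc.lift { pt := s.pt
              π := { app := m s
                     naturality := fun a a' f => (Category.id_comp _).trans (hnat s f).symm } }
  have hlift : ∀ (s : Cone (stages c e P)) (a : A), lift s ≫ c.π.app a = m s a := fun s a => hc.fac _ a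
  refine ⟨IsLimit.mk lift (fun s o => ?_) fun s k hk => ?_⟩
  · show lift s ≫ c.π.app o.1 ≫ (e o.1).app o.2 = _
    rw [← Category.assoc, hlift, hm]
  · refine hc.hom_ext fun a => (he a).hom_ext fun b => ?_
    show (k ≫ c.π.app a) ≫ (e a).app b = (lift s ≫ c.π.app a) ≫ (e a).app b
    rw [hlift, hm, Category.assoc]
    exact hk ⟨a, b⟩

/-- A cofiltered limit of cofiltered limits is a limit over a directed poset of the inner stages, with
transition morphisms in a given class `P`. -/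
theorem exists_directed_limit' [IsCofiltered A] [∀ a, IsCofiltered (B a)] (hc : IsLimit c)
    (he : ∀ a, IsLimit ({ pt := D.obj a, π := e a } : Cone (E a)))
    (hE : ∀ (a : A) (b b' : B a) (f : b ⟶ b'), P ((E a).map f))
    (hext : ∀ (a a' : A) (f : a ⟶ a') (b' : B a'),
      ∃ (b : B a) (g' : (E a).obj b ⟶ (E a').obj b'), P g' ∧ (e a).app b ≫ g' = D.map f ≫ (e a').app b')
    (heq : ∀ (a a' : A) (b : B a) (b' : B a') (g h : (E a).obj b ⟶ (E a').obj b'),
      (e a).app b ≫ g = (e a).app b ≫ h → ∃ (b₁ : B a) (f : b₁ ⟶ b), (E a).map f ≫ g = (E a).map f ≫ h)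
    (heq₀ : ∀ (a a' : A) (b' : B a') (g h : D.obj a ⟶ (E a').obj b'),
      c.π.app a ≫ g = c.π.app a ≫ h → ∃ (a₁ : A) (f : a₁ ⟶ a), D.map f ≫ g = D.map f ≫ h) :
    ∃ (I : Type u) (_ : Preorder I) (_ : IsDirected I (fun x y => x ≤ y)) (_ : Nonempty I)
      (D' : Iᵒᵖ ⥤ 𝒞) (c' : Cone D') (_ : IsLimit c'),
      (∀ i, ∃ (a : A) (b : B a), D'.obj i = (E a).obj b) ∧ (∀ (i j : Iᵒᵖ) (k : i ⟶ j), P (D'.map k)) ∧
        c'.pt = c.pt := by
  haveI := isCofiltered_stage c e P hE hext heq heq₀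
  obtain ⟨I, _, _, _, F, _⟩ := IsFiltered.exists_directed (Stage c e P)ᵒᵖ
  obtain ⟨hl⟩ := nonempty_isLimit_stageCone c e P hE hext hc he
  haveI : F.leftOp.Initial := inferInstance
  exact ⟨I, inferInstance, inferInstance, inferInstance, F.leftOp ⋙ stages c e P,
    (stageCone c e P).whisker F.leftOp, (Functor.Initial.isLimitWhiskerEquiv F.leftOp _).symm hl,
    fun i => ⟨(F.obj i.unop).unop.1, (F.obj i.unop).unop.2, rfl⟩,
    fun i j k => (F.leftOp.map k).2.1, rfl⟩

omit [P.IsMultiplicative] in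
/-- A cofiltered limit of cofiltered limits is a limit over a directed poset of the inner stages. -/
theorem exists_directed_limit [IsCofiltered A] [∀ a, IsCofiltered (B a)] (hc : IsLimit c)
    (he : ∀ a, IsLimit ({ pt := D.obj a, π := e a } : Cone (E a)))
    (hext : ∀ (a a' : A) (b' : B a') (g : D.obj a ⟶ (E a').obj b'),
      ∃ (b : B a) (g' : (E a).obj b ⟶ (E a').obj b'), (e a).app b ≫ g' = g)
    (heq : ∀ (a a' : A) (b : B a) (b' : B a') (g h : (E a).obj b ⟶ (E a').obj b'),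
      (e a).app b ≫ g = (e a).app b ≫ h → ∃ (b₁ : B a) (f : b₁ ⟶ b), (E a).map f ≫ g = (E a).map f ≫ h)
    (heq₀ : ∀ (a a' : A) (b' : B a') (g h : D.obj a ⟶ (E a').obj b'),
      c.π.app a ≫ g = c.π.app a ≫ h → ∃ (a₁ : A) (f : a₁ ⟶ a), D.map f ≫ g = D.map f ≫ h) :
    ∃ (I : Type u) (_ : Preorder I) (_ : IsDirected I (fun x y => x ≤ y)) (_ : Nonempty I)
      (D' : Iᵒᵖ ⥤ 𝒞) (c' : Cone D') (_ : IsLimit c'),
      (∀ i, ∃ (a : A) (b : B a), D'.obj i = (E a).obj b) ∧ c'.pt = c.pt := by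
  obtain ⟨I, i1, i2, i3, D', c', hc', hobj, -, hpt⟩ := exists_directed_limit' c e ⊤ hc he
    (fun _ _ _ _ => trivial) (fun a a' f b' => by
      obtain ⟨b, g, hg⟩ := hext a a' b' (D.map f ≫ (e a').app b')
      exact ⟨b, g, trivial, hg⟩) heq heq₀
  exact ⟨I, i1, i2, i3, D', c', hc', hobj, hpt⟩

end Groth.Agent.LimNested
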